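import Cfsg.Agent.CosetCert.Pack

/-! Generated: the facts of the log. -/

namespace Cfsg.Agent.Fi23Mult.W5

open Cfsg.Agent.CosetCert

def factStore : Store := (.leaf 0x30000400004020000400004010000400004030000300003020000300003030000200002000000200002010000100001000000100001020000000000010000000000000000000000000000400003010000300002020000200001030000100000)

end Cfsg.Agent.Fi23Mult.W5
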