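import Cfsg.Agent.CosetCert.Pack

/-! Generated: the justifications. -/

namespace Cfsg.Agent.Fi23Mult.W5

open Cfsg.Agent.CosetCert

def justStore : Store := (.leaf 0xc80000e0000301008180001dc000070000180804080000e0000260000280000e0000302008080001d4000050000100804180000a000044000030000140000404010500002d00000400003000008100420000070000080000f01020200001800000000058081030000040000000002404080c00002200001000000f00000003ec003ec003ec003ec003ec003ec003ec003ec003ec003ec003ec003ec003ec003ec003ec003ec003ec003ec003ec003ec003ec003ec003ec003ec003ec003ec003ec003ec003ec003ec003ec003ec003ec003ec003ec003ec003ec003ec003ec003ec003ec003ec003ec003ec003ec003ec003ec003ec003ec0038f00332002ab0024e001c800156000fc000a30004a00031000180000000000000000000000000)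

end Cfsg.Agent.Fi23Mult.W5
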