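import Cfsg.Agent.CosetCert.Pack

/-! Generated: the table. -/

namespace Cfsg.Agent.Fi23Mult.W5

open Cfsg.Agent.CosetCert

def edgeStore : Store := (.leaf 0x1e00004000001c00004000001a00004000000700003000001800003000001600003000000500002000000600004000001400002000000300001000000400003000001200002000000100000000000200002000001000001000000e00001000000000001000000c00000000000a00000000000800000)

def repStore : Store := (.leaf 0x4000000000003000000000002000000000001000000000000)

def treeStore : Store := (.leaf 0x60000000000041000000000022000000000003000000000000)

end Cfsg.Agent.Fi23Mult.W5
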